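import Cfsg.Agent.H69.SLFour.Quad

/-!
The similarity group of a quadratic form in three variables, odd characteristic, is maximal in the
special linear group.
-/

set_option autoImplicit false

open Cfsg

namespace Cfsg.Agent.H36.SLThreeForms.OrthThree

open scoped MatrixGroups Matrix
open Matrix QuadraticMap
open Cfsg.Agent.H95 hiding exists_iso_perp exists_iso_nonorth
open Cfsg.Agent.H69.SLFour (tv_of_good)

attribute [-simp] Matrix.coe_units_inv

variable {F : Type*} [Field F] [Fintype F] {Q : (Fin 3 → F) → F}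
  (hQ : Geo.IsNondegenerateQuadraticForm Q) (h2 : (2 : F) ≠ 0)

set_option linter.unusedSectionVars false

/-- Three independent vectors span. -/
lemma exists_coeff {x y z : Fin 3 → F}
    (h : ∀ a b c : F, a • x + b • y + c • z = 0 → a = 0 ∧ b = 0 ∧ c = 0) (v : Fin 3 → F) :
    ∃ a b c : F, v = a • x + b • y + c • z := by
  have hinj : Function.Injective (fun p : Fin 3 → F => p 0 • x + p 1 • y + p 2 • z) := by
    intro p r hpr
    simp only at hpr
    obtain ⟨h0, h1, h2⟩ := h (p 0 - r 0) (p 1 - r 1) (p 2 - r 2) (by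
      simp only [sub_smul]; rw [← sub_eq_zero.2 hpr]; abel)
    funext i
    fin_cases i
    · exact sub_eq_zero.1 h0
    · exact sub_eq_zero.1 h1
    · exact sub_eq_zero.1 h2
  obtain ⟨p, hp⟩ := Finite.surjective_of_injective hinj v
  exact ⟨p 0, p 1, p 2, hp.symm⟩

include hQ h2

/-- An anisotropic vector orthogonal to a non-degenerate plane. -/
lemma exists_third {a b : Fin 3 → F}
    (hab : ∀ p r : F, p * polar Q a a + r * polar Q b a = 0 →
      p * polar Q a b + r * polar Q b b = 0 → p = 0 ∧ r = 0) :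
    ∃ v, polar Q v a = 0 ∧ polar Q v b = 0 ∧ Q v ≠ 0 := by
  let L : (Fin 3 → F) →ₗ[F] (Fin 2 → F) :=
    { toFun := fun y => ![polar Q y a, polar Q y b]
      map_add' := fun y z => by ext i; fin_cases i <;> simp [p_add_left hQ]
      map_smul' := fun t y => by ext i; fin_cases i <;> simp [p_smul_left hQ] }
  obtain ⟨y, hy, hy0⟩ := Submodule.exists_mem_ne_zero_of_ne_bot
    (LinearMap.ker_ne_bot_of_finrank_lt (f := L) (by simp))
  have hya : polar Q y a = 0 := congrFun (LinearMap.mem_ker.1 hy) 0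
  have hyb : polar Q y b = 0 := congrFun (LinearMap.mem_ker.1 hy) 1
  refine ⟨y, hya, hyb, fun hyy => ?_⟩
  have hindep : ∀ p r c : F, p • a + r • b + c • y = 0 → p = 0 ∧ r = 0 ∧ c = 0 := by
    intro p r c h
    have h1 := congrArg (fun v => polar Q v a) h
    have h3 := congrArg (fun v => polar Q v b) h
    simp only [p_add_left hQ, p_smul_left hQ, hya, hyb, mul_zero, add_zero, p_zero_left hQ] at h1 h3
    obtain ⟨rfl, rfl⟩ := hab p r h1 h3
    rw [zero_smul, zero_smul, zero_add, zero_add] at h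
    exact ⟨rfl, rfl, (smul_eq_zero.1 h).resolve_right hy0⟩
  obtain ⟨⟨w, hw⟩, -⟩ := hQ.nondegenerate y hy0
  obtain ⟨p, r, c, rfl⟩ := exists_coeff hindep w
  apply hw
  rw [p_add_left hQ, p_add_left hQ, p_smul_left hQ, p_smul_left hQ, p_smul_left hQ, p_self hQ, hyy,
    p_comm hQ a y, hya, p_comm hQ b y, hyb]
  ring

lemma exists_third_orth {a b : Fin 3 → F} (ha : Q a ≠ 0) (hb : Q b ≠ 0) (hba : polar Q b a = 0) :
    ∃ v, polar Q v a = 0 ∧ polar Q v b = 0 ∧ Q v ≠ 0 :=
  exists_third hQ h2 fun p r h1 h3 => by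
    rw [hba, mul_zero, add_zero, p_self hQ] at h1
    rw [p_comm hQ a b, hba, mul_zero, zero_add, p_self hQ] at h3
    exact ⟨(mul_eq_zero.1 h1).resolve_right (mul_ne_zero h2 ha),
      (mul_eq_zero.1 h3).resolve_right (mul_ne_zero h2 hb)⟩

/-- A frame at an isotropic vector. -/
lemma exists_frame {e : Fin 3 → F} (he0 : e ≠ 0) (he : Q e = 0) :
    ∃ d v, Q d = 0 ∧ polar Q e d = 1 ∧ polar Q v e = 0 ∧ polar Q v d = 0 ∧ Q v ≠ 0 ∧
      ∀ y, y = polar Q y d • e + polar Q y e • d + (polar Q y v / (2 * Q v)) • v := by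
  obtain ⟨-, y₀, hy₀⟩ := hQ.nondegenerate e he0
  obtain ⟨y, hey⟩ : ∃ y, polar Q e y = 1 :=
    ⟨(polar Q e y₀)⁻¹ • y₀, by rw [p_smul_right hQ, inv_mul_cancel₀ hy₀]⟩
  set d := y - Q y • e
  have hd : Q d = 0 := by
    rw [q_sub hQ, q_smul hQ, he, p_smul_right hQ, p_comm hQ y e, hey]; ring
  have hed : polar Q e d = 1 := by
    rw [p_sub_right hQ, p_smul_right hQ, hey, p_self hQ, he]; ring
  have hde : polar Q d e = 1 := by rw [p_comm hQ]; exact hed
  obtain ⟨v, hve, hvd, hv⟩ := exists_third hQ h2 (a := e) (b := d) fun p r h1 h3 => by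
    rw [p_self hQ, he, hde] at h1; rw [p_self hQ, hd, hed] at h3
    exact ⟨by linear_combination h3, by linear_combination h1⟩
  have hev : polar Q e v = 0 := by rw [p_comm hQ]; exact hve
  have hdv : polar Q d v = 0 := by rw [p_comm hQ]; exact hvd
  refine ⟨d, v, hd, hed, hve, hvd, hv, fun z => ?_⟩
  obtain ⟨a, b, c, rfl⟩ := exists_coeff (x := e) (y := d) (z := v) (fun a b c h => by
    have k1 := congrArg (fun w => polar Q w d) h
    have k2 := congrArg (fun w => polar Q w e) h
    have k3 := congrArg (fun w => polar Q w v) h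
    simp only [p_add_left hQ, p_smul_left hQ, p_zero_left hQ, p_self hQ, he, hd, hed, hde, hve, hvd,
      hev, hdv, mul_zero, mul_one, add_zero, zero_add] at k1 k2 k3
    exact ⟨k1, k2, (mul_eq_zero.1 k3).resolve_right (mul_ne_zero h2 hv)⟩) z
  simp only [p_add_left hQ, p_smul_left hQ, p_self hQ, he, hd, hed, hde, hve, hvd, hev, hdv,
    mul_zero, mul_one, add_zero, zero_add, mul_div_cancel_right₀ _ (mul_ne_zero h2 hv)]

lemma exists_iso_ne_zero : ∃ e : Fin 3 → F, e ≠ 0 ∧ Q e = 0 := by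
  obtain ⟨a, -, ha⟩ := exists_aniso_ker hQ h2 (![] : Fin 0 → Fin 3 → F) (by simp)
  obtain ⟨b, hb', hb⟩ := exists_aniso_ker hQ h2 ![dv (polar Q) a] (by simp)
  have hba : polar Q b a = 0 := by rw [← qv_dot hQ]; exact hb' 0
  obtain ⟨c, hca, hcb, hc⟩ := exists_third_orth hQ h2 ha hb hba
  obtain ⟨e, -, he0, he⟩ := exists_iso_of_three hQ h2 (W := ⊤) Submodule.mem_top Submodule.mem_top
    Submodule.mem_top ha hb hc (by rw [p_comm hQ]; exact hba) (by rw [p_comm hQ]; exact hca)
    (by rw [p_comm hQ]; exact hcb)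
  exact ⟨e, he0, he⟩

omit h2 in
/-- Isometries preserve the polar form. -/
lemma polar_iso {g : GL (Fin 3) F} (hg : ∀ y, Q ((g : Matrix (Fin 3) (Fin 3) F) *ᵥ y) = Q y)
    (y z : Fin 3 → F) :
    polar Q ((g : Matrix (Fin 3) (Fin 3) F) *ᵥ y) ((g : Matrix (Fin 3) (Fin 3) F) *ᵥ z) =
      polar Q y z := by
  simp only [polar, ← mulVec_add, hg]

variable {M : Subgroup (GL (Fin 3) F)}
  (hM : ∀ a b (ha : Q a ≠ 0) (hb : Q b ≠ 0), rfl' hQ h2 a ha * rfl' hQ h2 b hb ∈ M)
include hM

/-- A transvection conjugated by a pair of reflections. -/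
lemma conj_pair {u w : Fin 3 → F} (hw : InTv M u (dv (polar Q) w)) {a b : Fin 3 → F}
    (ha : Q a ≠ 0) (hb : Q b ≠ 0) {u' w' : Fin 3 → F}
    (hu' : ((rfl' hQ h2 a ha * rfl' hQ h2 b hb : GL (Fin 3) F) : Matrix (Fin 3) (Fin 3) F) *ᵥ u = u')
    (hw' : ((rfl' hQ h2 a ha * rfl' hQ h2 b hb : GL (Fin 3) F) : Matrix (Fin 3) (Fin 3) F) *ᵥ w = w') :
    InTv M u' (dv (polar Q) w') := by
  have h1 := hw.conj (hM a b ha hb)
  rw [hu', vecMul_inv_eq (ψ := dv (polar Q) w') fun x => ?_] at h1
  · exact h1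
  · rw [qv_dot hQ, qv_dot hQ, ← hw']
    exact polar_iso hQ (fun y => by rw [mul_mulVec, rfl'_iso hQ, rfl'_iso hQ]) _ _

/-- The covectors of one centre are moved by the reflections fixing it up to sign. -/
lemma step_refl {u w b : Fin 3 → F} (hu : Q u ≠ 0) (hb : Q b ≠ 0)
    (hw : InTv M u (dv (polar Q) w)) (hbu : polar Q b u = 0) :
    InTv M u (dv (polar Q) ((polar Q w b / Q b) • b)) := by
  have hwu : polar Q w u = 0 := by rw [p_comm hQ, ← qv_dot hQ]; exact hw.1
  have h1 := conj_pair hQ h2 hM hw hu hb (u' := -u) (w' := w - (polar Q w b / Q b) • b)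
    (by
      rw [mul_mulVec, rfl'_mulVec, rfl'_mulVec, p_comm hQ u b, hbu, zero_div, zero_smul, sub_zero,
        p_self hQ, mul_div_assoc, div_self hu, mul_one, two_smul]
      abel)
    (by
      rw [mul_mulVec, rfl'_mulVec, rfl'_mulVec, p_sub_left hQ, p_smul_left hQ, hwu, hbu, mul_zero,
        sub_zero, zero_div, zero_smul, sub_zero])
  have h3 := h1.neg_left
  rw [neg_neg] at h3
  have h4 := hw.sub_right h3
  convert h4 using 1
  ext i
  simp [dv, p_sub_right hQ, p_smul_right hQ]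

/-- A full line of covectors from one member. -/
lemma line_full {u a a' : Fin 3 → F} (hu : Q u ≠ 0) (ha : Q a ≠ 0) (ha' : Q a' ≠ 0)
    (hau : polar Q a u = 0) (ha'u : polar Q a' u = 0) (ha'a : polar Q a' a = 0)
    {x : F} (hx : x ≠ 0) (h : InTv M u (dv (polar Q) (x • a))) (c : F) :
    InTv M u (dv (polar Q) (c • a)) := by
  let P : F → Prop := fun y => InTv M u (dv (polar Q) (y • a))
  have hP0 : P 0 := by
    show InTv M u _
    rw [qv_smul hQ, zero_smul]; exact inTv_zero_right M u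
  have hPadd : ∀ y z, P y → P z → P (y + z) := fun y z hy hz => by
    show InTv M u _
    rw [add_smul, qv_add hQ]; exact hy.add_right hz
  have hPneg : ∀ y, P y → P (-y) := fun y hy => by
    show InTv M u _
    rw [qv_smul hQ, neg_smul, ← qv_smul hQ]; exact hy.neg_right
  let R : Subring F :=
    { carrier := {r | ∀ y, P y → P (r * y)}
      mul_mem' := fun {r s} hr hs y hy => by rw [mul_assoc]; exact hr _ (hs _ hy)
      one_mem' := fun y hy => by rwa [one_mul]
      add_mem' := fun {r s} hr hs y hy => by rw [add_mul]; exact hPadd _ _ (hr _ hy) (hs _ hy)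
      zero_mem' := fun y _ => by rw [zero_mul]; exact hP0
      neg_mem' := fun {r} hr y hy => by rw [neg_mul]; exact hPneg _ (hr _ hy) }
  have hinv : ∀ r ∈ R, r⁻¹ ∈ R := by
    intro r hr
    rcases eq_or_ne r 0 with rfl | hr0
    · rw [_root_.inv_zero]; exact R.zero_mem
    · have hq : 2 ≤ Fintype.card F := Fintype.one_lt_card
      have : r⁻¹ = r ^ (Fintype.card F - 2) := by
        refine inv_eq_of_mul_eq_one_right ?_
        rw [← pow_succ', show Fintype.card F - 2 + 1 = Fintype.card F - 1 by omega,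
          FiniteField.pow_card_sub_one_eq_one r hr0]
      rw [this]; exact R.pow_mem hr _
  have hμ : ∀ s, s ^ 2 * Q a + Q a' ≠ 0 → 4 * s ^ 2 * Q a / (s ^ 2 * Q a + Q a') ∈ R := by
    intro s hs y hy
    set b := s • a + a' with hb
    have hQb : Q b = s ^ 2 * Q a + Q a' := by
      rw [hb, q_add hQ, q_smul hQ, p_smul_left hQ, p_comm hQ a a', ha'a]; ring
    have hbu : polar Q b u = 0 := by
      rw [hb, p_add_left hQ, p_smul_left hQ, hau, ha'u]; ring
    have h1 := step_refl hQ h2 hM hu (hQb ▸ hs) hy hbu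
    have h3 := step_refl hQ h2 hM hu ha h1 hau
    show InTv M u _
    convert h3 using 3
    rw [hQb]
    simp only [hb, p_smul_left hQ, p_add_left hQ, p_add_right hQ, p_smul_right hQ, p_self hQ,
      p_comm hQ a a', ha'a, add_zero]
    field_simp
    ring_nf
  have h4 : (4 : F) ∈ R := by exact_mod_cast (natCast_mem R 4)
  have h40 : (4 : F) ≠ 0 := by
    rw [show (4 : F) = 2 * 2 by norm_num]; exact mul_ne_zero h2 h2
  have hsq' : ∀ s : F, s ^ 2 * Q a / Q a' ∈ R := by
    intro s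
    by_cases hs : s ^ 2 * Q a + Q a' = 0
    · rw [show s ^ 2 * Q a / Q a' = -1 by field_simp; linear_combination hs]
      exact R.neg_mem R.one_mem
    · have h1 := R.sub_mem (R.mul_mem h4 (hinv _ (R.sub_mem h4 (hμ s hs)))) R.one_mem
      convert h1 using 1
      rw [show 4 - 4 * s ^ 2 * Q a / (s ^ 2 * Q a + Q a') =
        4 * Q a' / (s ^ 2 * Q a + Q a') by field_simp; ring, inv_div]
      field_simp
      ring
  have hsq : ∀ s : F, s ^ 2 ∈ R := by
    intro s
    have h1 := hinv _ (hsq' 1)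
    rw [one_pow, one_mul, inv_div] at h1
    have h3 := R.mul_mem (hsq' s) h1
    rwa [show s ^ 2 * Q a / Q a' * (Q a' / Q a) = s ^ 2 by field_simp] at h3
  have hall : ∀ r : F, r ∈ R := by
    intro r
    have h1 := R.sub_mem (hsq ((r + 1) / 2)) (hsq ((r - 1) / 2))
    rwa [show ((r + 1) / 2) ^ 2 - ((r - 1) / 2) ^ 2 = r by field_simp; ring] at h1
  have h1 := hall (c / x) x h
  rwa [div_mul_cancel₀ _ hx] at h1

/-- An anisotropic vector in the fan gives SL. -/
lemma specialLinear_le_of_mem_fan {u : Fin 3 → F} (hu : Q u ≠ 0) (hfan : u ∈ fan M) :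
    Geo.specialLinear (Fin 3) F ≤ M := by
  obtain ⟨a, ha', ha⟩ := exists_aniso_ker hQ h2 ![dv (polar Q) u] (by simp)
  have hau : polar Q a u = 0 := by rw [← qv_dot hQ]; exact ha' 0
  obtain ⟨b, hbu, hba, hb⟩ := exists_third_orth hQ h2 hu ha hau
  have hin : ∀ y, polar Q y u = 0 → Q y ≠ -Q u → y ∈ fan M := by
    intro y hy hne
    have hw : Q (u + y) ≠ 0 := by
      rw [q_add hQ, p_comm hQ u y, hy, add_zero]
      exact fun h => hne (by linear_combination h)
    have h1 := (fan M).add_mem hfan (mulVec_mem_fan (hM (u + y) u hw hu) hfan)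
    rw [mul_mulVec, rfl'_mulVec, rfl'_mulVec, p_self hQ, mul_div_assoc 2 (Q u), div_self hu,
      mul_one, p_sub_left hQ, p_smul_left hQ, p_add_right hQ, p_self hQ, p_comm hQ u y, hy,
      add_zero] at h1
    set k := (2 * Q u - 2 * (2 * Q u)) / Q (u + y) with hk
    have hk0 : k ≠ 0 := by
      rw [hk, show 2 * Q u - 2 * (2 * Q u) = -(2 * Q u) by ring]
      exact div_ne_zero (neg_ne_zero.2 (mul_ne_zero h2 hu)) hw
    rw [show u + (u - (2 : F) • u - k • (u + y)) = (-k) • (u + y) by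
      rw [two_smul, neg_smul]; abel] at h1
    have h3 := (fan M).sub_mem ((fan M).smul_mem (-k)⁻¹ h1) hfan
    rwa [smul_smul, inv_mul_cancel₀ (neg_ne_zero.2 hk0), one_smul, add_sub_cancel_left] at h3
  have hab : polar Q a b = 0 := by rw [p_comm hQ]; exact hba
  have hQp : Q (a + b) = Q a + Q b := by rw [q_add hQ, hab, add_zero]
  have hQm : Q (a - b) = Q a + Q b := by rw [q_sub hQ, hab, sub_zero]
  have hpu : polar Q (a + b) u = 0 := by rw [p_add_left hQ, hau, hbu, add_zero]
  have hmu : polar Q (a - b) u = 0 := by rw [p_sub_left hQ, hau, hbu, sub_zero]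
  obtain ⟨hafan, hbfan⟩ : a ∈ fan M ∧ b ∈ fan M := by
    by_cases ha1 : Q a = -Q u
    · by_cases hb1 : Q b = -Q u
      · have hne : Q a + Q b ≠ -Q u := fun h => hu (by linear_combination -h + ha1 + hb1)
        have h1 := hin _ hpu (hQp ▸ hne)
        have h3 := hin _ hmu (hQm ▸ hne)
        have e1 := (fan M).smul_mem (2 : F)⁻¹ ((fan M).add_mem h1 h3)
        have e2 := (fan M).smul_mem (2 : F)⁻¹ ((fan M).sub_mem h1 h3)
        rw [show a + b + (a - b) = (2 : F) • a by rw [two_smul]; abel, smul_smul,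
          inv_mul_cancel₀ h2, one_smul] at e1
        rw [show a + b - (a - b) = (2 : F) • b by rw [two_smul]; abel, smul_smul,
          inv_mul_cancel₀ h2, one_smul] at e2
        exact ⟨e1, e2⟩
      · have h1 := hin b hbu hb1
        have h3 := hin _ hpu (hQp ▸ fun h => hb (by linear_combination h - ha1))
        exact ⟨by simpa using (fan M).sub_mem h3 h1, h1⟩
    · by_cases hb1 : Q b = -Q u
      · have h1 := hin a hau ha1
        have h3 := hin _ hpu (hQp ▸ fun h => ha (by linear_combination h - hb1))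
        exact ⟨h1, by simpa using (fan M).sub_mem h3 h1⟩
      · exact ⟨hin a hau ha1, hin b hbu hb1⟩
  refine specialLinear_le_of_fan (eq_top_iff.2 fun y _ => ?_)
  obtain ⟨p, r, s, rfl⟩ := exists_coeff (x := u) (y := a) (z := b) (fun p r s h => by
    have k1 := congrArg (fun w => polar Q w u) h
    have k2 := congrArg (fun w => polar Q w a) h
    have k3 := congrArg (fun w => polar Q w b) h
    simp only [p_add_left hQ, p_smul_left hQ, p_zero_left hQ, p_self hQ, hau, hbu, hba, hab,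
      p_comm hQ u a, p_comm hQ u b, mul_zero, add_zero, zero_add] at k1 k2 k3
    exact ⟨(mul_eq_zero.1 k1).resolve_right (mul_ne_zero h2 hu),
      (mul_eq_zero.1 k2).resolve_right (mul_ne_zero h2 ha),
      (mul_eq_zero.1 k3).resolve_right (mul_ne_zero h2 hb)⟩) y
  exact (fan M).add_mem ((fan M).add_mem ((fan M).smul_mem _ hfan) ((fan M).smul_mem _ hafan))
    ((fan M).smul_mem _ hbfan)

/-- A line of covectors and one oblique anisotropic vector give SL. -/
lemma specialLinear_le_of_line {u a a' : Fin 3 → F} (hu : Q u ≠ 0) (ha : Q a ≠ 0) (ha' : Q a' ≠ 0)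
    (hau : polar Q a u = 0) (ha'u : polar Q a' u = 0) (ha'a : polar Q a' a = 0)
    (hline : ∀ c : F, InTv M u (dv (polar Q) (c • a))) {s : F} (hs : s ≠ 0)
    (hsb : s ^ 2 * Q a + Q a' ≠ 0) : Geo.specialLinear (Fin 3) F ≤ M := by
  set b := s • a + a' with hb
  have hQb : Q b = s ^ 2 * Q a + Q a' := by
    rw [hb, q_add hQ, q_smul hQ, p_smul_left hQ, p_comm hQ a a', ha'a]; ring
  have hQb' : Q b ≠ 0 := hQb ▸ hsb
  have hbu : polar Q b u = 0 := by
    rw [hb, p_add_left hQ, p_smul_left hQ, hau, ha'u]; ring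
  have hab : polar Q a b = s * (2 * Q a) := by
    rw [hb, p_add_right hQ, p_smul_right hQ, p_self hQ, p_comm hQ a a', ha'a, add_zero]
  have hab0 : polar Q a b ≠ 0 := hab ▸ mul_ne_zero hs (mul_ne_zero h2 ha)
  have hbline : ∀ c : F, InTv M u (dv (polar Q) (c • b)) := by
    intro c
    have h1 := step_refl hQ h2 hM hu hQb' (hline (c * Q b / polar Q a b)) hbu
    rwa [p_smul_left hQ, div_mul_cancel₀ _ hab0, mul_div_cancel_right₀ _ hQb'] at h1
  refine specialLinear_le_of_mem_fan hQ h2 hM hu fun φ hφ => ?_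
  obtain ⟨w, rfl⟩ := exists_qv hQ φ
  have hwu : polar Q w u = 0 := by rw [p_comm hQ, ← qv_dot hQ]; exact hφ
  obtain ⟨p, r, t, rfl⟩ := exists_coeff (x := u) (y := a) (z := b) (fun p r t h => by
    have k1 := congrArg (fun w => polar Q w u) h
    have k2 := congrArg (fun w => polar Q w a') h
    have k3 := congrArg (fun w => polar Q w a) h
    simp only [hb, p_add_left hQ, p_smul_left hQ, p_zero_left hQ, p_self hQ, hau, ha'u, ha'a,
      p_comm hQ u a, p_comm hQ u a', p_comm hQ a a', mul_zero, add_zero, zero_add] at k1 k2 k3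
    have ht : t = 0 := (mul_eq_zero.1 k2).resolve_right (mul_ne_zero h2 ha')
    rw [ht, zero_mul, add_zero] at k3
    exact ⟨(mul_eq_zero.1 k1).resolve_right (mul_ne_zero h2 hu),
      (mul_eq_zero.1 k3).resolve_right (mul_ne_zero h2 ha), ht⟩) w
  have hp : p = 0 := by
    simp only [p_add_left hQ, p_smul_left hQ, p_self hQ, hau, hbu, mul_zero, add_zero] at hwu
    exact (mul_eq_zero.1 hwu).resolve_right (mul_ne_zero h2 hu)
  rw [hp, zero_smul, zero_add, qv_add hQ]
  exact (hline r).add_right (hbline t)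

/-- A transvection with anisotropic centre gives SL. -/
lemma specialLinear_le_of_tv {u φ : Fin 3 → F} (hu : Q u ≠ 0) (hφ : φ ≠ 0) (hT : InTv M u φ) :
    Geo.specialLinear (Fin 3) F ≤ M := by
  obtain ⟨w, rfl⟩ := exists_qv hQ φ
  have hwu : polar Q w u = 0 := by rw [p_comm hQ, ← qv_dot hQ]; exact hT.1
  have hw0 : w ≠ 0 := fun e => hφ (by rw [e]; ext i; exact p_zero_right hQ _)
  obtain ⟨a, ha, hau, hwa⟩ : ∃ a, Q a ≠ 0 ∧ polar Q a u = 0 ∧ polar Q w a ≠ 0 := by
    by_cases hw : Q w = 0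
    · obtain ⟨-, y, hy⟩ := hQ.nondegenerate w hw0
      set y' := y - (polar Q y u / polar Q u u) • u with hy'
      have hy'u : polar Q y' u = 0 := by
        rw [hy', p_sub_left hQ, p_smul_left hQ, div_mul_cancel₀ _
          (by rw [p_self hQ]; exact mul_ne_zero h2 hu), sub_self]
      have hwy : polar Q w y' = polar Q w y := by
        rw [hy', p_sub_right hQ, p_smul_right hQ, hwu, mul_zero, sub_zero]
      by_cases hQy : Q y' = 0
      · refine ⟨y' + w, ?_, by rw [p_add_left hQ, hy'u, hwu, add_zero], ?_⟩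
        · rw [q_add hQ, hQy, hw, p_comm hQ, hwy, zero_add, zero_add]; exact hy
        · rw [p_add_right hQ, hwy, p_self hQ, hw, mul_zero, add_zero]; exact hy
      · exact ⟨y', hQy, hy'u, hwy ▸ hy⟩
    · exact ⟨w, hw, hwu, by rw [p_self hQ]; exact mul_ne_zero h2 hw⟩
  obtain ⟨a', ha'u, ha'a, ha'⟩ := exists_third_orth hQ h2 hu ha hau
  have hline := line_full hQ h2 hM hu ha ha' hau ha'u ha'a (div_ne_zero hwa ha)
    (step_refl hQ h2 hM hu ha hT hau)
  by_cases h1 : Q a + Q a' = 0
  swap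
  · exact specialLinear_le_of_line hQ h2 hM hu ha ha' hau ha'u ha'a hline one_ne_zero
      (by rw [one_pow, one_mul]; exact h1)
  classical
  by_cases hs : ∃ s : F, s ≠ 0 ∧ s ≠ 1 ∧ s ≠ -1
  · obtain ⟨s, hs0, hs1, hs2⟩ := hs
    refine specialLinear_le_of_line hQ h2 hM hu ha ha' hau ha'u ha'a hline hs0 fun h => ?_
    have h3 : (s - 1) * (s + 1) * Q a = 0 := by linear_combination h - h1
    rcases mul_eq_zero.1 h3 with h3 | h3
    · rcases mul_eq_zero.1 h3 with h3 | h3
      · exact hs1 (sub_eq_zero.1 h3)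
      · exact hs2 (eq_neg_of_add_eq_zero_left h3)
    · exact ha h3
  -- three elements
  push Not at hs
  have hF : ∀ s : F, s ≠ 0 → s ^ 2 = 1 := by
    intro s h0
    rcases eq_or_ne s 1 with rfl | h
    · exact one_pow 2
    · rw [hs s h0 h]; ring
  have h3 : (3 : F) = 0 := by linear_combination hF 2 h2
  have hua : polar Q u a = 0 := by rw [p_comm hQ]; exact hau
  have hua' : polar Q u a' = 0 := by rw [p_comm hQ]; exact ha'u
  have haa' : polar Q a a' = 0 := by rw [p_comm hQ]; exact ha'a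
  rcases eq_or_ne (Q u) (Q a) with hγ | hγ
  · -- exchange `u` and `a`
    have hd : Q (u - a) ≠ 0 := by
      rw [q_sub hQ, hua, sub_zero, hγ]
      exact fun h => mul_ne_zero h2 ha (by linear_combination h)
    have hdu : polar Q u (u - a) / Q (u - a) = 1 := by
      rw [div_eq_one_iff_eq hd, q_sub hQ, p_sub_right hQ, p_self hQ, hua, hγ]; ring
    have hda : polar Q a (u - a) / Q (u - a) = -1 := by
      rw [div_eq_iff hd, q_sub hQ, p_sub_right hQ, p_self hQ, hau, hua, hγ]; ring
    have hswap : ∀ c : F, InTv M a (dv (polar Q) (c • u)) := by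
      intro c
      refine conj_pair hQ h2 hM (hline c) hd ha' ?_ ?_
      · rw [mul_mulVec, rfl'_mulVec, rfl'_mulVec, hua', zero_div, zero_smul, sub_zero, hdu,
          one_smul, sub_sub_cancel]
      · rw [mulVec_smul, mul_mulVec, rfl'_mulVec, rfl'_mulVec, haa', zero_div, zero_smul, sub_zero,
          hda, neg_one_smul, sub_neg_eq_add, add_sub_cancel]
    set d := (2 * Q a)⁻¹ with hdd
    obtain ⟨h0, hT'⟩ := hswap d
    have key := (hline 1).conj hT'
    have hval : ∀ z, (tv a (dv (polar Q) (d • u)) h0 : Matrix (Fin 3) (Fin 3) F) *ᵥ z =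
        z + (d * polar Q z u) • a := fun z => by rw [tv_mulVec, qv_dot hQ, p_smul_right hQ]
    have hd1 : d * (2 * Q a) = 1 := inv_mul_cancel₀ (mul_ne_zero h2 ha)
    rw [hval, p_self hQ, hγ, hd1, one_smul,
      vecMul_inv_eq (ψ := dv (polar Q) (a - u)) fun z => by
        rw [qv_dot hQ, qv_dot hQ, hval]
        simp only [p_add_left hQ, p_sub_right hQ, p_smul_left hQ, p_self hQ, hau]
        linear_combination (polar Q z u) * hd1] at key
    have hQv : Q (u + a) ≠ 0 := by
      rw [q_add hQ, hua, add_zero, hγ]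
      exact fun h => mul_ne_zero h2 ha (by linear_combination h)
    have hQw : Q (a - u) = 2 * Q a := by rw [q_sub hQ, hau, sub_zero, hγ]; ring
    have hperp : polar Q (a - u) (u + a) = 0 := by
      simp only [p_sub_left hQ, p_add_right hQ, p_self hQ, hau, hua, hγ]; ring
    have hperp' : polar Q a' (u + a) = 0 := by rw [p_add_right hQ, ha'u, ha'a, add_zero]
    have hperp'' : polar Q a' (a - u) = 0 := by rw [p_sub_right hQ, ha'u, ha'a, sub_zero]
    have hQw' : Q (a - u) ≠ 0 := hQw ▸ mul_ne_zero h2 ha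
    have hline' := line_full hQ h2 hM hQv hQw' ha' hperp hperp' hperp'' (one_ne_zero (α := F))
      (by rw [one_smul]; exact key)
    refine specialLinear_le_of_line hQ h2 hM hQv hQw' ha' hperp hperp' hperp'' hline' one_ne_zero ?_
    rw [hQw]
    exact fun h => ha (by linear_combination h - h1)
  · -- exchange `u` and `a'`
    have hγ' : Q u = Q a' := by
      have e1 := hF (Q u) hu
      have e2 := hF (Q a) ha
      have e3 : (Q u - Q a) * (Q u + Q a) = 0 := by linear_combination e1 - e2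
      linear_combination (mul_eq_zero.1 e3).resolve_left (sub_ne_zero.2 hγ) - h1
    have hd : Q (u - a') ≠ 0 := by
      rw [q_sub hQ, hua', sub_zero, hγ']
      exact fun h => mul_ne_zero h2 ha' (by linear_combination h)
    have hdu : polar Q u (u - a') / Q (u - a') = 1 := by
      rw [div_eq_one_iff_eq hd, q_sub hQ, p_sub_right hQ, p_self hQ, hua', hγ']; ring
    have hswap : InTv M a' (dv (polar Q) ((-1 : F) • a)) := by
      refine conj_pair hQ h2 hM (hline 1) hd ha ?_ ?_
      · rw [mul_mulVec, rfl'_mulVec, rfl'_mulVec, hua, zero_div, zero_smul, sub_zero, hdu,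
          one_smul, sub_sub_cancel]
      · rw [one_smul, mul_mulVec, rfl'_mulVec, rfl'_mulVec, p_self hQ, mul_div_assoc 2 (Q a),
          div_self ha, mul_one, p_sub_left hQ, p_smul_left hQ, p_sub_right hQ, hau, haa', sub_zero,
          mul_zero, sub_zero, zero_div, zero_smul, sub_zero, two_smul, neg_one_smul]
        abel
    have hneg := hswap.neg_right
    rw [qv_smul hQ, neg_one_smul, neg_neg] at hneg
    have key : InTv M (u + a') (dv (polar Q) ((1 : F) • a)) := by
      have h5 := hline 1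
      rw [one_smul] at h5 ⊢
      exact h5.add_left hneg
    have hQv : Q (u + a') ≠ 0 := by
      rw [q_add hQ, hua', add_zero, hγ']
      exact fun h => mul_ne_zero h2 ha' (by linear_combination h)
    have hQw : Q (u - a') = 2 * Q a' := by rw [q_sub hQ, hua', sub_zero, hγ']; ring
    have hperp : polar Q a (u + a') = 0 := by rw [p_add_right hQ, hau, haa', add_zero]
    have hperp' : polar Q (u - a') (u + a') = 0 := by
      simp only [p_sub_left hQ, p_add_right hQ, p_self hQ, ha'u, hua', hγ']; ring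
    have hperp'' : polar Q (u - a') a = 0 := by rw [p_sub_left hQ, hua, ha'a, sub_zero]
    have hline' := line_full hQ h2 hM hQv ha hd hperp hperp' hperp'' one_ne_zero key
    refine specialLinear_le_of_line hQ h2 hM hQv ha hd hperp hperp' hperp'' hline' one_ne_zero ?_
    rw [hQw]
    exact fun h => ha' (by linear_combination h - h1)

/-- Two forms with one vector of differing polar hyperplanes. -/
lemma tv_of_noneigen {g : GL (Fin 3) F} (hg : g ∈ M) {v x : Fin 3 → F} (hv : Q v ≠ 0)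
    (hgv : Q ((g : Matrix (Fin 3) (Fin 3) F) *ᵥ v) ≠ 0)
    (hx : polar Q ((g : Matrix (Fin 3) (Fin 3) F) *ᵥ x) ((g : Matrix (Fin 3) (Fin 3) F) *ᵥ v) * Q v ≠
      Q ((g : Matrix (Fin 3) (Fin 3) F) *ᵥ v) * polar Q x v) :
    ∃ u φ, Q u ≠ 0 ∧ φ ≠ 0 ∧ InTv M u φ := by
  obtain ⟨c, hc', hc⟩ := exists_aniso_ker hQ h2 ![dv (polar Q) v] (by simp)
  have hcv : polar Q c v = 0 := by rw [← qv_dot hQ]; exact hc' 0
  set gv := (g : Matrix (Fin 3) (Fin 3) F) *ᵥ v with hgvd
  set φ := (Q gv)⁻¹ • dv (polar Q) gv -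
    (Q v)⁻¹ • (dv (polar Q) v ᵥ* ((g⁻¹ : GL (Fin 3) F) : Matrix (Fin 3) (Fin 3) F)) with hφd
  have hφ : ∀ y, φ ⬝ᵥ y = polar Q y gv / Q gv -
      polar Q (((g⁻¹ : GL (Fin 3) F) : Matrix (Fin 3) (Fin 3) F) *ᵥ y) v / Q v := by
    intro y
    rw [hφd, sub_dotProduct, smul_dotProduct, smul_dotProduct, ← dotProduct_mulVec, qv_dot hQ,
      qv_dot hQ, smul_eq_mul, smul_eq_mul, inv_mul_eq_div, inv_mul_eq_div]
  refine ⟨gv, φ, hgv, fun e => hx ?_, ?_, ?_⟩
  · have h1 := hφ ((g : Matrix (Fin 3) (Fin 3) F) *ᵥ x)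
    rw [e, zero_dotProduct, inv_mulVec_mulVec] at h1
    field_simp at h1
    linear_combination -h1
  · rw [hφ, hgvd, inv_mulVec_mulVec, p_self hQ, p_self hQ, ← hgvd, mul_div_assoc, mul_div_assoc,
      div_self hgv, div_self hv, sub_self]
  · -- `g (r_v r_w) g⁻¹ (r_{gv} r_{gw})⁻¹` is not central; use the half-turns instead
    obtain ⟨d, hdv, hdc, hd⟩ := exists_third_orth hQ h2 hv hc hcv
    obtain ⟨c', hc'', hc₂⟩ := exists_aniso_ker hQ h2 ![dv (polar Q) gv] (by simp)
    have hcv' : polar Q c' gv = 0 := by rw [← qv_dot hQ]; exact hc'' 0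
    obtain ⟨d', hdv', hdc', hd₂⟩ := exists_third_orth hQ h2 hgv hc₂ hcv'
    have half : ∀ (v c d : Fin 3 → F) (hv : Q v ≠ 0) (hc : Q c ≠ 0) (hd : Q d ≠ 0),
        polar Q c v = 0 → polar Q d v = 0 → polar Q d c = 0 → ∀ y,
        ((rfl' hQ h2 c hc * rfl' hQ h2 d hd : GL (Fin 3) F) : Matrix (Fin 3) (Fin 3) F) *ᵥ y =
          (polar Q y v / Q v) • v - y := by
      intro v c d hv hc hd hcv hdv hdc y
      obtain ⟨p, r, t, rfl⟩ := exists_coeff (x := v) (y := c) (z := d) (fun p r t h => by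
        have k1 := congrArg (fun w => polar Q w v) h
        have k2 := congrArg (fun w => polar Q w c) h
        have k3 := congrArg (fun w => polar Q w d) h
        simp only [p_add_left hQ, p_smul_left hQ, p_zero_left hQ, p_self hQ, hcv, hdv, hdc,
          p_comm hQ v c, p_comm hQ v d, p_comm hQ c d, mul_zero, add_zero, zero_add] at k1 k2 k3
        exact ⟨(mul_eq_zero.1 k1).resolve_right (mul_ne_zero h2 hv),
          (mul_eq_zero.1 k2).resolve_right (mul_ne_zero h2 hc),
          (mul_eq_zero.1 k3).resolve_right (mul_ne_zero h2 hd)⟩) y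
      rw [mul_mulVec, rfl'_mulVec, rfl'_mulVec]
      simp only [p_add_left hQ, p_sub_left hQ, p_smul_left hQ, p_self hQ, hcv, hdv, hdc,
        p_comm hQ v c, p_comm hQ v d, p_comm hQ c d, mul_zero, add_zero, zero_add, sub_zero]
      ext i
      simp only [Pi.add_apply, Pi.sub_apply, Pi.smul_apply, smul_eq_mul]
      field_simp
      ring
    convert M.mul_mem (M.mul_mem (M.mul_mem hg (hM c d hc hd)) (M.inv_mem hg))
      (hM c' d' hc₂ hd₂) using 1
    refine gl_ext fun y => ?_
    rw [tv_mulVec, hφ, mul_mulVec, mul_mulVec, mul_mulVec, half gv c' d' hgv hc₂ hd₂ hcv' hdv' hdc',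
      half v c d hv hc hd hcv hdv hdc]
    simp only [mulVec_sub, mulVec_smul, mulVec_inv_mulVec, hgvd, inv_mulVec_mulVec]
    simp only [p_sub_left hQ, p_smul_left hQ, p_self hQ, ← hgvd]
    ext i
    simp only [Pi.add_apply, Pi.sub_apply, Pi.smul_apply, smul_eq_mul]
    field_simp
    ring

omit hQ h2 hM in
/-- Clause (6): the similarity group of a quadratic form is maximal in `SL₃`. -/
theorem quad_similarity_maximal_three {F : Type*} [Field F] [Fintype F]
    (hodd : Odd (Fintype.card F)) (Q : (Fin 3 → F) → F)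
    (hQ : Geo.IsNondegenerateQuadraticForm Q) :
    Geo.IsMaximalIn (Geo.specialLinear (Fin 3) F)
      (Geo.quadSimilarityGroup Q ⊓ Geo.specialLinear (Fin 3) F) := by
  have h2 : (2 : F) ≠ 0 := by
    refine Ring.two_ne_zero fun h => ?_
    have := FiniteField.even_card_of_char_two (F := F) h
    rw [Nat.odd_iff] at hodd
    omega
  refine ⟨lt_of_le_of_ne inf_le_right ?_, fun M hSM hMSL => ?_⟩
  · intro hEq
    obtain ⟨a, -, ha⟩ := exists_aniso_ker hQ h2 (![] : Fin 0 → Fin 3 → F) (by simp)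
    obtain ⟨b, hb', hb⟩ := exists_aniso_ker hQ h2 ![dv (polar Q) a] (by simp)
    have hab : polar Q b a = 0 := by rw [← qv_dot hQ]; exact hb' 0
    have h0 : dv (polar Q) b ⬝ᵥ a = 0 := by rw [qv_dot hQ, p_comm hQ, hab]
    obtain ⟨⟨μ, hμ⟩, -⟩ : tv a (dv (polar Q) b) h0 ∈
        Geo.quadSimilarityGroup Q ⊓ Geo.specialLinear (Fin 3) F :=
      hEq.symm ▸ tv_mem_specialLinear _ _ h0
    have e1 := hμ a
    rw [tv_mulVec, h0, zero_smul, add_zero] at e1
    have hμ1 : (μ : F) = 1 := (mul_eq_right₀ ha).1 e1.symm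
    have e2 := hμ b
    rw [tv_mulVec, qv_dot hQ, q_add hQ, q_smul hQ, p_smul_right hQ, hab, p_self hQ, hμ1, one_mul,
      mul_zero, add_zero, add_eq_left, mul_eq_zero, sq_eq_zero_iff, mul_eq_zero] at e2
    rcases e2 with (h | h) | h
    · exact h2 h
    · exact hb h
    · exact ha h
  by_cases hMS : M ≤ Geo.quadSimilarityGroup Q ⊓ Geo.specialLinear (Fin 3) F
  · exact Or.inl (le_antisymm hMS hSM)
  right
  refine le_antisymm hMSL ?_
  obtain ⟨g, hgM, hgS⟩ := SetLike.not_le_iff_exists.1 hMS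
  have hM : ∀ a b (ha : Q a ≠ 0) (hb : Q b ≠ 0), rfl' hQ h2 a ha * rfl' hQ h2 b hb ∈ M :=
    fun a b ha hb => hSM (S5644.refl_pair_mem hQ h2 a b ha hb)
  have hsg : ∀ e c (he : Q e = 0) (hec : polar Q e c = 0), sg hQ e c he hec ∈ M :=
    fun e c he hec => hSM ⟨⟨1, fun v => by rw [Units.val_one, one_mul, sg_iso hQ]⟩,
      sg_mem_specialLinear hQ e c he hec⟩
  suffices h : ∃ u φ, Q u ≠ 0 ∧ φ ≠ 0 ∧ InTv M u φ by
    obtain ⟨u, φ, hu, hφ, hT⟩ := h
    exact specialLinear_le_of_tv hQ h2 hM hu hφ hT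
  set G := (g : Matrix (Fin 3) (Fin 3) F) with hG
  by_cases hmove : ∃ e, Q e = 0 ∧ Q (G *ᵥ e) ≠ 0
  · obtain ⟨e, he, hge⟩ := hmove
    have he0 : e ≠ 0 := fun h => hge (by rw [h, mulVec_zero, q_zero hQ])
    obtain ⟨d, v, hd, hed, hve, hvd, hv, hexp⟩ := exists_frame hQ h2 he0 he
    -- a vector orthogonal to `e` for both forms
    have hev : polar Q e v = 0 := by rw [p_comm hQ]; exact hve
    set t := -(polar Q (G *ᵥ v) (G *ᵥ e) / (2 * Q (G *ᵥ e))) with ht
    set c := v + t • e with hc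
    have hce : polar Q c e = 0 := by
      rw [hc, p_add_left hQ, p_smul_left hQ, hve, p_self hQ, he]; ring
    have hQc : Q c = Q v := by
      rw [hc, q_add hQ, q_smul hQ, p_smul_right hQ, hve, he]; ring
    have hgce : polar Q (G *ᵥ c) (G *ᵥ e) = 0 := by
      rw [hc, mulVec_add, mulVec_smul, p_add_left hQ, p_smul_left hQ, p_self hQ, ht, neg_mul,
        div_mul_cancel₀ _ (mul_ne_zero h2 hge), add_neg_cancel]
    by_cases hgc : Q (G *ᵥ c) = 0
    · refine tv_of_noneigen hQ h2 hM hgM (v := c + e) (x := e) ?_ ?_ ?_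
      · rw [q_add hQ, he, hce, hQc, add_zero, add_zero]; exact hv
      · rw [mulVec_add, q_add hQ, hgc, hgce, add_zero, zero_add]; exact hge
      · rw [mulVec_add, p_add_right hQ, p_comm hQ (G *ᵥ e) (G *ᵥ c), hgce, p_self hQ, zero_add,
          q_add hQ c e, p_add_right hQ, p_comm hQ e c, hce, p_self hQ, he, hQc]
        simpa using mul_ne_zero (mul_ne_zero h2 hge) hv
    · exact tv_of_good hQ h2 hM hsg hgM he hge hce hgce (hQc ▸ hv) hgc
  push Not at hmove
  obtain ⟨e, he0, he⟩ := exists_iso_ne_zero hQ h2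
  obtain ⟨d, v, hd, hed, hve, hvd, hv, hexp⟩ := exists_frame hQ h2 he0 he
  have hev : polar Q e v = 0 := by rw [p_comm hQ]; exact hve
  have hdv : polar Q d v = 0 := by rw [p_comm hQ]; exact hvd
  have hcase : ∀ e, Q e = 0 → polar Q e v = 0 →
      (∃ u φ, Q u ≠ 0 ∧ φ ≠ 0 ∧ InTv M u φ) ∨ polar Q (G *ᵥ e) (G *ᵥ v) = 0 := by
    intro e he hev
    refine or_iff_not_imp_right.2 fun hne => ?_
    by_cases hgv : Q (G *ᵥ v) = 0
    · refine tv_of_noneigen hQ h2 hM hgM (v := v + e) (x := e) ?_ ?_ ?_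
      · rw [q_add hQ, he, p_comm hQ v e, hev, add_zero, add_zero]; exact hv
      · rw [mulVec_add, q_add hQ, hgv, hmove e he, p_comm hQ (G *ᵥ v), zero_add, zero_add]
        exact hne
      · rw [mulVec_add, p_add_right hQ, p_self hQ, hmove e he, q_add hQ v e, he, p_comm hQ v e,
          p_add_right hQ, hev, p_self hQ, he]
        simpa using mul_ne_zero hne hv
    · refine tv_of_noneigen hQ h2 hM hgM (x := e) hv hgv ?_
      rw [hev, mul_zero]
      exact mul_ne_zero hne hv
  rcases hcase e he hev with h | hpe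
  · exact h
  rcases hcase d hd hdv with h | hpd
  · exact h
  exfalso
  have hQv : Q (G *ᵥ v) = Q v * polar Q (G *ᵥ e) (G *ᵥ d) := by
    have h1 : Q (e + v - Q v • d) = 0 := by
      rw [q_sub hQ, q_add hQ, q_smul hQ, p_smul_right hQ, p_add_left hQ, he, hd, hev, hed,
        p_comm hQ v d, hdv]
      ring
    have h3 := hmove _ h1
    rw [mulVec_sub, mulVec_add, mulVec_smul, q_sub hQ, q_add hQ, q_smul hQ, p_smul_right hQ,
      p_add_left hQ, hmove e he, hmove d hd, hpe, p_comm hQ (G *ᵥ v) (G *ᵥ d), hpd] at h3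
    linear_combination h3
  have hsim : ∀ y, Q (G *ᵥ y) = polar Q (G *ᵥ e) (G *ᵥ d) * Q y := by
    intro y
    have hy := hexp y
    generalize polar Q y d = a at hy
    generalize polar Q y e = b at hy
    generalize polar Q y v / (2 * Q v) = k at hy
    rw [hy]
    simp only [mulVec_add, mulVec_smul, q_add hQ, q_smul hQ, p_add_left hQ, p_smul_left hQ,
      p_smul_right hQ, hmove e he, hmove d hd, he, hd, hed, hev, hdv, hpe, hpd, hQv]
    ring
  have hl0 : polar Q (G *ᵥ e) (G *ᵥ d) ≠ 0 := by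
    intro h
    have h1 := hsim (((g⁻¹ : GL (Fin 3) F) : Matrix (Fin 3) (Fin 3) F) *ᵥ v)
    rw [hG, mulVec_inv_mulVec, ← hG, h, zero_mul] at h1
    exact hv h1
  exact hgS ⟨⟨Units.mk0 _ hl0, hsim⟩, hMSL hgM⟩

end Cfsg.Agent.H36.SLThreeForms.OrthThree
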