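import Cfsg.Agent.S5643
import Cfsg.Agent.H95.Dil

/-!
The similarity group of a unitary form is maximal in the special linear group of degree three.
-/

set_option autoImplicit false

open Cfsg

namespace Cfsg.Agent.H36.SLThreeForms

open scoped MatrixGroups Matrix
open Matrix
open Cfsg.Agent.H95 hiding exists_aniso_perp3 exists_isotropic
open Cfsg.Agent.S5643 (udv_dot udv_add udv_smul exists_udv)

variable {F : Type*} [Field F] [Fintype F]
  {σ : F ≃+* F} {f : (Fin 3 → F) → (Fin 3 → F) → F} (hf : Geo.IsUnitaryForm σ f)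

set_option linter.unusedSectionVars false

/-- Three independent vectors span. -/
lemma exists_coeff {x y z : Fin 3 → F}
    (h : ∀ a b c : F, a • x + b • y + c • z = 0 → a = 0 ∧ b = 0 ∧ c = 0) (v : Fin 3 → F) :
    ∃ a b c : F, v = a • x + b • y + c • z := by
  have hinj : Function.Injective (fun p : Fin 3 → F => p 0 • x + p 1 • y + p 2 • z) := by
    intro p r hpr
    simp only at hpr
    obtain ⟨h0, h1, h2⟩ := h (p 0 - r 0) (p 1 - r 1) (p 2 - r 2) (by
      simp only [sub_smul]; rw [← sub_eq_zero.2 hpr]; abel)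
    funext i
    fin_cases i
    · exact sub_eq_zero.1 h0
    · exact sub_eq_zero.1 h1
    · exact sub_eq_zero.1 h2
  obtain ⟨p, hp⟩ := Finite.surjective_of_injective hinj v
  exact ⟨p 0, p 1, p 2, hp.symm⟩

include hf

/-- An anisotropic vector orthogonal to a non-degenerate plane. -/
lemma exists_third {a b : Fin 3 → F}
    (hab : ∀ p r : F, p * f a a + r * f b a = 0 → p * f a b + r * f b b = 0 → p = 0 ∧ r = 0) :
    ∃ v, f v a = 0 ∧ f v b = 0 ∧ f v v ≠ 0 := by
  let L : (Fin 3 → F) →ₗ[F] (Fin 2 → F) :=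
    { toFun := fun y => ![f y a, f y b]
      map_add' := fun y z => by ext i; fin_cases i <;> simp [u_add_left hf]
      map_smul' := fun t y => by ext i; fin_cases i <;> simp [u_smul_left hf] }
  obtain ⟨y, hy, hy0⟩ := Submodule.exists_mem_ne_zero_of_ne_bot
    (LinearMap.ker_ne_bot_of_finrank_lt (f := L) (by simp))
  have hya : f y a = 0 := congrFun (LinearMap.mem_ker.1 hy) 0
  have hyb : f y b = 0 := congrFun (LinearMap.mem_ker.1 hy) 1
  refine ⟨y, hya, hyb, fun hyy => ?_⟩
  have hindep : ∀ p r c : F, p • a + r • b + c • y = 0 → p = 0 ∧ r = 0 ∧ c = 0 := by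
    intro p r c h
    have h1 := congrArg (fun v => f v a) h
    have h2 := congrArg (fun v => f v b) h
    simp only [u_add_left hf, u_smul_left hf, hya, hyb, mul_zero, add_zero, u_zero_left hf] at h1 h2
    obtain ⟨rfl, rfl⟩ := hab p r h1 h2
    rw [zero_smul, zero_smul, zero_add, zero_add] at h
    exact ⟨rfl, rfl, (smul_eq_zero.1 h).resolve_right hy0⟩
  obtain ⟨⟨w, hw⟩, -⟩ := hf.nondegenerate y hy0
  obtain ⟨p, r, c, rfl⟩ := exists_coeff hindep w
  apply hw
  rw [u_add_left hf, u_add_left hf, u_smul_left hf, u_smul_left hf, u_smul_left hf, hyy,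
    u_symm_zero hf hya, u_symm_zero hf hyb]
  ring

/-- Two orthogonal anisotropic vectors give an isotropic one. -/
lemma exists_iso_comb {x y : Fin 3 → F} (hyx : f y x = 0) (hx : f x x ≠ 0) (hy : f y y ≠ 0) :
    ∃ k : F, k ≠ 0 ∧ f (k • x + y) (k • x + y) = 0 := by
  classical
  obtain ⟨δ, hδ0, hδ⟩ := exists_skew_ne_zero hf
  have hfix : ∀ v, σ (f v v) = f v v := fun v => u_conj hf v v
  let K : Subfield F :=
    { carrier := {c | σ c = c}
      mul_mem' := fun {a b} ha hb => by
        show σ (a * b) = a * b; rw [map_mul, ha, hb]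
      one_mem' := map_one σ
      add_mem' := fun {a b} ha hb => by
        show σ (a + b) = a + b; rw [map_add, ha, hb]
      zero_mem' := map_zero σ
      neg_mem' := fun {a} ha => by show σ (-a) = -a; rw [map_neg, ha]
      inv_mem' := fun a ha => by show σ a⁻¹ = a⁻¹; rw [map_inv₀, ha] }
  obtain ⟨p, r, hpr⟩ : ∃ p r : K, f x x * (p : F) ^ 2 + -δ ^ 2 * f x x * (r : F) ^ 2 + f y y = 0 := by
    by_cases hK : ringChar K = 2
    · obtain ⟨p, hp⟩ := FiniteField.isSquare_of_char_two hK
        (⟨-(f y y) / f x x, by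
          show σ (-(f y y) / f x x) = _; rw [map_div₀, map_neg, hfix, hfix]⟩ : K)
      refine ⟨p, 0, ?_⟩
      have h := congrArg Subtype.val hp
      simp only [Subfield.coe_mul] at h
      rw [sq (p : F), ← h]
      field_simp
      simp
    · obtain ⟨p, r, h⟩ := FiniteField.exists_root_sum_quadratic
        (f := Polynomial.C (⟨f x x, hfix x⟩ : K) * Polynomial.X ^ 2 +
          Polynomial.C (⟨f y y, hfix y⟩ : K))
        (g := Polynomial.C (⟨-δ ^ 2 * f x x, by
          show σ (-δ ^ 2 * f x x) = _; rw [map_mul, map_neg, map_pow, hδ, hfix]; ring⟩ : K) *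
          Polynomial.X ^ 2)
        (by
          rw [Polynomial.degree_add_eq_left_of_degree_lt]
          · rw [Polynomial.degree_C_mul_X_pow]
            · rfl
            · exact fun e => hx (congrArg Subtype.val e)
          · rw [Polynomial.degree_C_mul_X_pow _ (fun e => hx (congrArg Subtype.val e))]
            exact lt_of_le_of_lt Polynomial.degree_C_le (by decide))
        (by
          rw [Polynomial.degree_C_mul_X_pow]
          · rfl
          · exact fun e => mul_ne_zero (neg_ne_zero.2 (pow_ne_zero 2 hδ0)) hx (congrArg Subtype.val e))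
        (Nat.odd_iff.1 (Nat.odd_iff.2 (FiniteField.odd_card_of_char_ne_two hK)))
      refine ⟨p, r, ?_⟩
      have h' := congrArg Subtype.val h
      simp at h'
      linear_combination h'
  refine ⟨(p : F) + r * δ, fun h => hy ?_, ?_⟩
  · have h2 : σ ((p : F) + r * δ) = 0 := by rw [h, map_zero]
    rw [map_add, map_mul, hδ, show σ (p : F) = p from p.2, show σ (r : F) = r from r.2] at h2
    linear_combination hpr - f x x * ((p : F) - r * δ) * h
  · simp only [u_add_left hf, u_add_right hf, u_smul_left hf, u_smul_right hf, hyx,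
      u_symm_zero hf hyx, map_add, map_mul, hδ, show σ (p : F) = p from p.2,
      show σ (r : F) = r from r.2]
    linear_combination hpr

/-- An orthogonal pair of anisotropic vectors. -/
lemma exists_orth_pair : ∃ a c : Fin 3 → F, f a a ≠ 0 ∧ f c c ≠ 0 ∧ f c a = 0 := by
  obtain ⟨s, hs⟩ := exists_trace_eq hf (s := 1) (map_one σ)
  obtain ⟨a, ha⟩ : ∃ a, f a a ≠ 0 := by
    by_contra hcon
    push Not at hcon
    have he : (Pi.single 0 1 : Fin 3 → F) ≠ 0 := by simp
    obtain ⟨⟨w, hw⟩, -⟩ := hf.nondegenerate _ he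
    set e : Fin 3 → F := Pi.single 0 1
    have h := hcon ((s / f w e) • w + e)
    rw [u_add_left hf, u_add_right hf, u_add_right hf, u_smul_left hf, u_smul_left hf,
      u_smul_right hf, u_smul_right hf, hcon w, hcon e, map_div₀, ← u_conj hf w e,
      div_mul_cancel₀ _ hw, div_mul_cancel₀ _ ((map_ne_zero_iff σ σ.injective).2 hw),
      mul_zero, mul_zero, zero_add, add_zero, hs] at h
    exact one_ne_zero h
  let L : (Fin 3 → F) →ₗ[F] (Fin 1 → F) :=
    { toFun := fun y => ![f y a]
      map_add' := fun y z => by ext i; fin_cases i; simp [u_add_left hf]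
      map_smul' := fun t y => by ext i; fin_cases i; simp [u_smul_left hf] }
  obtain ⟨y, hy, hy0⟩ := Submodule.exists_mem_ne_zero_of_ne_bot
    (LinearMap.ker_ne_bot_of_finrank_lt (f := L) (by simp))
  have hya : f y a = 0 := congrFun (LinearMap.mem_ker.1 hy) 0
  by_cases hyy : f y y = 0
  · obtain ⟨d, hd, hda, hyd⟩ := exists_partner hf hyy hya (fun t ht => hy0 (by
      rw [ht, u_smul_left hf, mul_eq_zero] at hya
      rw [ht, hya.resolve_right ha, zero_smul]))
    refine ⟨a, y + s • d, ha, ?_, by rw [u_add_left hf, u_smul_left hf, hya, hda]; ring⟩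
    have hdy : f d y = 1 := by rw [← u_conj hf, hyd, map_one]
    simp only [u_add_left hf, u_add_right hf, u_smul_left hf, u_smul_right hf, hyy, hd, hyd, hdy]
    rw [show (0 : F) + σ s * 1 + (s * 1 + s * (σ s * 0)) = 1 by linear_combination hs]
    exact one_ne_zero
  · exact ⟨a, y, ha, hyy, hya⟩

lemma exists_iso_ne_zero : ∃ e : Fin 3 → F, e ≠ 0 ∧ f e e = 0 := by
  obtain ⟨a, c, ha, hc, hca⟩ := exists_orth_pair hf
  obtain ⟨k, -, hk⟩ := exists_iso_comb hf hca ha hc
  refine ⟨k • a + c, fun h => hc ?_, hk⟩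
  have h1 := congrArg (fun v => f v c) h
  simpa [u_add_left hf, u_smul_left hf, u_symm_zero hf hca, u_zero_left hf] using h1

/-- Coordinates along a hyperbolic pair and a vector orthogonal to it. -/
lemma expand {e d v : Fin 3 → F} (he : f e e = 0) (hd : f d d = 0) (hed : f e d = 1)
    (hve : f v e = 0) (hvd : f v d = 0) (hv : f v v ≠ 0) (y : Fin 3 → F) :
    y = f y d • e + f y e • d + (f y v / f v v) • v := by
  have hde : f d e = 1 := by rw [← u_conj hf, hed, map_one]
  obtain ⟨a, b, c, rfl⟩ := exists_coeff (x := e) (y := d) (z := v) (fun a b c h => by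
    have h1 := congrArg (fun w => f w d) h
    have h2 := congrArg (fun w => f w e) h
    have h3 := congrArg (fun w => f w v) h
    simp only [u_add_left hf, u_smul_left hf, u_zero_left hf, he, hd, hed, hde, hve, hvd,
      u_symm_zero hf hve, u_symm_zero hf hvd, mul_zero, mul_one, add_zero, zero_add] at h1 h2 h3
    exact ⟨h1, h2, (mul_eq_zero.1 h3).resolve_right hv⟩) y
  simp only [u_add_left hf, u_smul_left hf, he, hd, hed, hde, hve, hvd,
    u_symm_zero hf hve, u_symm_zero hf hvd, mul_zero, mul_one, add_zero, zero_add,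
    mul_div_cancel_right₀ _ hv]

/-- The covector of `a` moved by an isometry. -/
lemma vecMul_iso {g : GL (Fin 3) F}
    (hg : ∀ y z, f ((g : Matrix (Fin 3) (Fin 3) F) *ᵥ y) ((g : Matrix (Fin 3) (Fin 3) F) *ᵥ z) = f y z)
    (a : Fin 3 → F) :
    dv f a ᵥ* ((g⁻¹ : GL (Fin 3) F) : Matrix (Fin 3) (Fin 3) F) =
      dv f ((g : Matrix (Fin 3) (Fin 3) F) *ᵥ a) :=
  vecMul_inv_eq fun x => by rw [udv_dot hf, udv_dot hf, hg]

variable {M : Subgroup (GL (Fin 3) F)}
  (hS : Geo.similarityGroup f ⊓ Geo.specialLinear (Fin 3) F ≤ M)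
include hS

lemma iso_mem {g : GL (Fin 3) F}
    (hg : ∀ y z, f ((g : Matrix (Fin 3) (Fin 3) F) *ᵥ y) ((g : Matrix (Fin 3) (Fin 3) F) *ᵥ z) = f y z)
    (hd : g ∈ Geo.specialLinear (Fin 3) F) : g ∈ M :=
  hS ⟨⟨1, fun y z => by rw [Units.val_one, one_mul, hg]⟩, hd⟩

/-- Unitary transvections. -/
lemma utv {b : Fin 3 → F} {l : F} (hb : f b b = 0) (hl : σ l = -l) :
    ∃ T ∈ M, InTv M b (l • dv f b) ∧
      (∀ y z, f ((T : Matrix (Fin 3) (Fin 3) F) *ᵥ y) ((T : Matrix (Fin 3) (Fin 3) F) *ᵥ z) = f y z) ∧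
      ∀ y, (T : Matrix (Fin 3) (Fin 3) F) *ᵥ y = y + (l * f y b) • b := by
  have h0 : (l • dv f b) ⬝ᵥ b = 0 := by rw [smul_dotProduct, udv_dot hf, hb, smul_zero]
  have hT : ∀ y, (tv b (l • dv f b) h0 : Matrix (Fin 3) (Fin 3) F) *ᵥ y = y + (l * f y b) • b := by
    intro y; rw [tv_mulVec, smul_dotProduct, udv_dot hf, smul_eq_mul]
  have hiso : ∀ y z, f ((tv b (l • dv f b) h0 : Matrix (Fin 3) (Fin 3) F) *ᵥ y)
      ((tv b (l • dv f b) h0 : Matrix (Fin 3) (Fin 3) F) *ᵥ z) = f y z := by
    intro y z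
    rw [hT, hT]
    simp only [u_add_left hf, u_add_right hf, u_smul_left hf, u_smul_right hf, hb, map_mul, hl,
      u_conj hf]
    ring
  have hmem := iso_mem hf hS hiso (tv_mem_specialLinear _ _ h0)
  exact ⟨_, hmem, ⟨h0, hmem⟩, hiso, hT⟩

/-- Eichler transformations. -/
lemma eichler {u d : Fin 3 → F} (hu : f u u = 0) (hdu : f d u = 0) :
    ∃ t : F, ∃ E ∈ M,
      (∀ y z, f ((E : Matrix (Fin 3) (Fin 3) F) *ᵥ y) ((E : Matrix (Fin 3) (Fin 3) F) *ᵥ z) = f y z) ∧
      ∀ y, (E : Matrix (Fin 3) (Fin 3) F) *ᵥ y = y + f y u • d + (t * f y u - f y d) • u := by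
  obtain ⟨t, ht⟩ := exists_trace_eq hf (s := -f d d) (by rw [map_neg, u_conj hf])
  have hud : f u d = 0 := u_symm_zero hf hdu
  have h1 : dv f u ⬝ᵥ d = 0 := by rw [udv_dot hf, hdu]
  have h2 : ((t + f d d) • dv f u - dv f d) ⬝ᵥ u = 0 := by
    rw [sub_dotProduct, smul_dotProduct, udv_dot hf, udv_dot hf, hu, hud]; simp
  set E := tv u ((t + f d d) • dv f u - dv f d) h2 * tv d (dv f u) h1 with hE
  have hval : ∀ y, (E : Matrix (Fin 3) (Fin 3) F) *ᵥ y =
      y + f y u • d + (t * f y u - f y d) • u := by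
    intro y
    rw [hE, mul_mulVec, tv_mulVec, tv_mulVec]
    simp only [sub_dotProduct, smul_dotProduct, udv_dot hf, u_add_left hf, u_smul_left hf, hdu,
      smul_eq_mul]
    congr 2
    ring
  have hiso : ∀ y z, f ((E : Matrix (Fin 3) (Fin 3) F) *ᵥ y)
      ((E : Matrix (Fin 3) (Fin 3) F) *ᵥ z) = f y z := by
    intro y z
    rw [hval, hval]
    simp only [u_add_left hf, u_add_right hf, u_smul_left hf, u_smul_right hf, hu, hud, hdu,
      map_mul, map_sub, u_conj hf]
    linear_combination (f y u * f u z) * ht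
  exact ⟨t, E, iso_mem hf hS hiso (Subgroup.mul_mem _ (tv_mem_specialLinear _ _ h2)
    (tv_mem_specialLinear _ _ h1)), hiso, hval⟩

/-- Moving the covector of a transvection by a unitary transvection fixing the centre. -/
lemma hstep {u w b : Fin 3 → F} {m : F} (hw : InTv M u (dv f w)) (hb : f b b = 0)
    (hub : f u b = 0) (hm : σ m = -m) : InTv M u (dv f ((m * f w b) • b)) := by
  obtain ⟨T, hT, -, hiso, hval⟩ := utv hf hS hb hm
  have h1 := hw.conj hT
  rw [vecMul_iso hf hiso, hval, hval, hub, mul_zero, zero_smul, add_zero] at h1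
  have h2 := h1.sub_right hw
  rwa [udv_add hf, add_sub_cancel_left] at h2

/-- From a full root group at an isotropic vector to SL. -/
lemma specialLinear_le_of_root {e : Fin 3 → F} (he0 : e ≠ 0) (he : f e e = 0)
    (hroot : ∀ c : F, InTv M e (c • dv f e)) : Geo.specialLinear (Fin 3) F ≤ M := by
  obtain ⟨δ, hδ0, hδ⟩ := exists_skew_ne_zero hf
  obtain ⟨d, hd, -, hed⟩ := exists_partner hf (u := (0 : Fin 3 → F)) he (u_zero_right hf e)
    (fun t ht => he0 (by rw [ht, smul_zero]))
  have hde : f d e = 1 := by rw [← u_conj hf, hed, map_one]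
  -- the root group at `d`
  obtain ⟨A, hA, -, hAiso, hAval⟩ := utv hf hS hd hδ
  obtain ⟨B, hB, -, hBiso, hBval⟩ := utv hf hS (l := -δ⁻¹) he (by
    rw [map_neg, map_inv₀, hδ, inv_neg])
  have hBA : ((B * A : GL (Fin 3) F) : Matrix (Fin 3) (Fin 3) F) *ᵥ e = δ • d := by
    rw [mul_mulVec, hAval, hed, mul_one, hBval, u_add_left hf, u_smul_left hf, he, hde, mul_one,
      zero_add, neg_mul, inv_mul_cancel₀ hδ0, neg_one_smul]
    abel
  have hrootd : ∀ c : F, InTv M d (c • dv f d) := by
    intro c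
    have h1 := (hroot (c / (δ * σ δ))).conj (M.mul_mem hB hA)
    rw [Matrix.smul_vecMul, vecMul_iso hf (g := B * A) (fun y z => by
      rw [mul_mulVec, mul_mulVec, hBiso, hAiso]), hBA, udv_smul hf, smul_smul] at h1
    have h2 := inTv_smul_right h1 (by rw [smul_dotProduct, udv_dot hf, hd, smul_zero])
    convert h2 using 1
    rw [smul_smul]
    congr 1
    have : σ δ ≠ 0 := (map_ne_zero_iff σ σ.injective).2 hδ0
    field_simp
  -- a transvection class with anisotropic centre
  obtain ⟨c, hc⟩ := exists_trace_eq hf (s := 1) (map_one σ)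
  set w := d + c • e with hw
  set z := d - σ c • e with hz
  have hww : f w w = 1 := by
    simp only [hw, u_add_left hf, u_add_right hf, u_smul_left hf, u_smul_right hf, hd, he, hed, hde]
    linear_combination hc
  have hzz : f z z = -1 := by
    simp only [hz, u_sub_left hf, u_sub_right hf, u_smul_left hf, u_smul_right hf, hd, he, hed,
      hde, u_inv hf]
    linear_combination -hc
  have hwz : f w z = 0 := by
    simp only [hw, hz, u_add_left hf, u_sub_right hf, u_smul_left hf, u_smul_right hf, hd, he, hed,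
      hde, u_inv hf]
    ring
  have hwline : ∀ s : F, InTv M w (dv f (s • z)) := by
    intro s
    obtain ⟨h0, hT⟩ := hroot c
    have h1 := (hrootd (σ s)).conj hT
    rw [tv_mulVec, smul_dotProduct, udv_dot hf, hde, smul_eq_mul, mul_one,
      vecMul_inv_eq (ψ := dv f (s • z)) fun x => by
        simp only [udv_dot hf, tv_mulVec, smul_dotProduct, smul_eq_mul, hz, u_smul_right hf,
          u_add_left hf, u_smul_left hf, u_sub_right hf, hed, he, u_inv hf]
        ring] at h1
    exact h1
  obtain ⟨v, hvd, hve, hvv⟩ := exists_third hf (a := d) (b := e) (fun p r h1 h2 => by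
    rw [hd, hed] at h1; rw [hde, he] at h2
    exact ⟨by linear_combination h2, by linear_combination h1⟩)
  have hvw : f v w = 0 := by
    rw [hw, u_add_right hf, u_smul_right hf, hvd, hve]; ring
  have hvz : f v z = 0 := by
    rw [hz, u_sub_right hf, u_smul_right hf, hvd, hve]; ring
  obtain ⟨k, hk0, hk⟩ := exists_iso_comb hf hvz (by rw [hzz]; exact neg_ne_zero.2 one_ne_zero) hvv
  set b := k • z + v with hb
  have hwb : f w b = 0 := by
    rw [hb, u_add_right hf, u_smul_right hf, hwz, u_symm_zero hf hvw]; ring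
  have hzb : f z b = -σ k := by
    rw [hb, u_add_right hf, u_smul_right hf, hzz, u_symm_zero hf hvz]; ring
  have hbline : ∀ s : F, InTv M w (dv f (s • b)) := by
    intro s
    have h1 := hstep hf hS (hwline (s / (δ * -σ k))) hk hwb hδ
    rwa [u_smul_left hf, hzb, mul_left_comm, div_mul_cancel₀ _
      (mul_ne_zero hδ0 (neg_ne_zero.2 ((map_ne_zero_iff σ σ.injective).2 hk0)))] at h1
  have hwfan : w ∈ fan M := by
    intro φ hφ
    obtain ⟨a, rfl⟩ := exists_udv hf φ
    rw [udv_dot hf] at hφ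
    set β := f a v / f v v
    have hsum : a = (-f a z - β * k) • z + β • b := by
      have h1 := expand hf he hd hed hve hvd hvv a
      have h2 := u_symm_zero hf hφ
      rw [hw, u_add_right hf, u_smul_right hf] at h2
      rw [hb, hz, u_sub_right hf, u_smul_right hf, u_inv hf]
      conv_lhs => rw [h1, show f a v / f v v = β from rfl]
      ext i
      simp only [Pi.add_apply, Pi.sub_apply, Pi.smul_apply, smul_eq_mul]
      linear_combination (e i + d i - σ c * e i) * h2 + (f a e * (σ c * e i - d i)) * hc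
    rw [hsum, udv_add hf]
    exact (hwline _).add_right (hbline _)
  have hmove : ∀ v ∈ fan M, ∀ d, f d d = 0 → f v d ≠ 0 → d ∈ fan M := by
    intro v hv d hd hvd
    obtain ⟨T, hT, -, -, hval⟩ := utv hf hS hd hδ
    have h1 := (fan M).sub_mem (mulVec_mem_fan hT hv) hv
    rw [hval, add_sub_cancel_left] at h1
    have h2 := (fan M).smul_mem (δ * f v d)⁻¹ h1
    rwa [smul_smul, inv_mul_cancel₀ (mul_ne_zero hδ0 hvd), one_smul] at h2
  have hefan : e ∈ fan M := hmove w hwfan e he (by
    rw [hw, u_add_left hf, u_smul_left hf, hde, he, mul_zero, add_zero]; exact one_ne_zero)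
  refine specialLinear_le_of_fan (eq_top_iff.2 fun y _ => ?_)
  exact mem_of_perp hf (D := fan M) he (u_zero_right hf _)
    (fun t ht => he0 (by rw [ht, smul_zero]))
    (fun d h1 _ h3 => hmove e hefan d h1 h3) (u_zero_right hf y)

/-- A transvection outside the unitary group gives SL. -/
lemma specialLinear_le_of_bad {u x : Fin 3 → F} (hu : u ≠ 0) (hxM : InTv M u (dv f x))
    (hx : ∀ t : F, x ≠ t • u) : Geo.specialLinear (Fin 3) F ≤ M := by
  obtain ⟨δ, hδ0, hδ⟩ := exists_skew_ne_zero hf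
  have hux : f u x = 0 := by rw [← udv_dot hf]; exact hxM.1
  have hxu : f x u = 0 := u_symm_zero hf hux
  by_cases huu : f u u = 0
  · -- isotropic centre
    obtain ⟨d, hd, -, hud⟩ := exists_partner hf (u := (0 : Fin 3 → F)) huu (u_zero_right hf u)
      (fun t ht => hu (by rw [ht, smul_zero]))
    have hdu : f d u = 1 := by rw [← u_conj hf, hud, map_one]
    obtain ⟨v, hvu, hvd, hvv⟩ := exists_third hf (a := u) (b := d) (fun p r h1 h2 => by
      rw [huu, hdu] at h1; rw [hud, hd] at h2
      exact ⟨by linear_combination h2, by linear_combination h1⟩)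
    have hxx : f x x ≠ 0 := by
      intro h
      have h1 := expand hf huu hd hud hvu hvd hvv x
      rw [hxu, zero_smul, add_zero] at h1
      have hxv : f x v = 0 := by
        by_contra hne
        apply mul_ne_zero (mul_ne_zero (div_ne_zero hne hvv) ((map_ne_zero_iff σ σ.injective).2
          (div_ne_zero hne hvv))) hvv
        rw [h1] at h
        simp only [u_add_left hf, u_add_right hf, u_smul_left hf, u_smul_right hf, huu, hvu,
          u_symm_zero hf hvu, mul_zero, add_zero, zero_add] at h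
        linear_combination h
      rw [hxv, zero_div, zero_smul, add_zero] at h1
      exact hx _ h1
    refine specialLinear_le_of_root hf hS hu huu fun c => ?_
    obtain ⟨t, E, hE, hiso, hval⟩ := eichler hf hS (d := (c / f x x) • x) huu
      (by rw [u_smul_left hf, hxu, mul_zero])
    have h1 := hxM.conj hE
    rw [vecMul_iso hf hiso, hval, hval] at h1
    simp only [huu, u_smul_right hf, hux, hxu, zero_smul, mul_zero, sub_zero, add_zero, zero_sub]
      at h1
    have h2 := hxM.sub_right h1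
    rwa [udv_add hf, sub_add_cancel_left, udv_smul hf, map_neg, map_mul, u_inv hf, u_conj hf,
      neg_smul, neg_neg, div_mul_cancel₀ _ hxx] at h2
  · -- anisotropic centre
    obtain ⟨e, he0, he, heu, heM⟩ : ∃ e, e ≠ 0 ∧ f e e = 0 ∧ f e u = 0 ∧ InTv M u (dv f e) := by
      by_cases hxx : f x x = 0
      · exact ⟨x, by simpa using hx 0, hxx, hxu, hxM⟩
      obtain ⟨v, hvu, hvx, hvv⟩ := exists_third hf (a := u) (b := x) (fun p r h1 h2 => by
        rw [hxu, mul_zero, add_zero] at h1; rw [hux, mul_zero, zero_add] at h2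
        exact ⟨(mul_eq_zero.1 h1).resolve_right huu, (mul_eq_zero.1 h2).resolve_right hxx⟩)
      obtain ⟨k, hk0, hk⟩ := exists_iso_comb hf hvx hxx hvv
      set b := k • x + v with hb
      have hbu : f b u = 0 := by rw [hb, u_add_left hf, u_smul_left hf, hxu, hvu]; ring
      have hxb : f x b ≠ 0 := by
        rw [hb, u_add_right hf, u_smul_right hf, u_symm_zero hf hvx, add_zero]
        exact mul_ne_zero ((map_ne_zero_iff σ σ.injective).2 hk0) hxx
      refine ⟨(δ * f x b) • b, smul_ne_zero (mul_ne_zero hδ0 hxb) (fun h => hxb ?_), ?_, ?_,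
        hstep hf hS hxM hk (u_symm_zero hf hbu) hδ⟩
      · rw [h, u_zero_right hf]
      · rw [u_smul_left hf, u_smul_right hf, hk]; ring
      · rw [u_smul_left hf, hbu, mul_zero]
    refine specialLinear_le_of_root hf hS he0 he fun c => ?_
    obtain ⟨t, E, hE, hiso, hval⟩ := eichler hf hS (d := (σ c / f u u) • u) he
      (by rw [u_smul_left hf, u_symm_zero hf heu, mul_zero])
    have h1 := heM.conj hE
    rw [vecMul_iso hf hiso, hval, hval] at h1
    simp only [he, u_smul_right hf, heu, u_symm_zero hf heu, zero_smul, mul_zero, sub_zero,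
      add_zero, zero_sub] at h1
    have h2 := heM.sub_left h1
    rw [map_div₀, u_inv hf, u_conj hf, div_mul_cancel₀ _ huu, neg_smul, ← sub_eq_add_neg,
      sub_sub_cancel] at h2
    exact inTv_smul_right h2 (by rw [udv_dot hf, he])

omit hf hS in
/-- Clause (7): the similarity group of a unitary form is maximal in `SL₃`. -/
theorem unitary_similarity_maximal_three (σ : F ≃+* F) (f : (Fin 3 → F) → (Fin 3 → F) → F)
    (hf : Geo.IsUnitaryForm σ f) :
    Geo.IsMaximalIn (Geo.specialLinear (Fin 3) F)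
      (Geo.similarityGroup f ⊓ Geo.specialLinear (Fin 3) F) := by
  refine ⟨lt_of_le_of_ne inf_le_right ?_, ?_⟩
  · intro hEq
    obtain ⟨a, c, ha, hc, hca⟩ := exists_orth_pair hf
    have h0 : dv f c ⬝ᵥ a = 0 := by rw [udv_dot hf, u_symm_zero hf hca]
    obtain ⟨⟨μ, hμ⟩, -⟩ : tv a (dv f c) h0 ∈
        Geo.similarityGroup f ⊓ Geo.specialLinear (Fin 3) F :=
      hEq.symm ▸ tv_mem_specialLinear a (dv f c) h0
    have e1 := hμ c a
    rw [tv_mulVec, tv_mulVec, udv_dot hf, udv_dot hf, u_symm_zero hf hca, zero_smul, add_zero,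
      u_add_left hf, u_smul_left hf, hca, zero_add, mul_zero] at e1
    exact mul_ne_zero hc ha e1
  intro M hS hMSL
  by_cases hMS : M ≤ Geo.similarityGroup f ⊓ Geo.specialLinear (Fin 3) F
  · exact Or.inl (le_antisymm hMS hS)
  right
  refine le_antisymm hMSL ?_
  obtain ⟨g, hgM, hgS⟩ := SetLike.not_le_iff_exists.1 hMS
  by_cases hB : ∃ u x, u ≠ 0 ∧ InTv M u (dv f x) ∧ ∀ t : F, x ≠ t • u
  · obtain ⟨u, x, h1, h2, h3⟩ := hB
    exact specialLinear_le_of_bad hf hS h1 h2 h3
  push Not at hB
  exfalso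
  obtain ⟨δ, hδ0, hδ⟩ := exists_skew_ne_zero hf
  have key : ∀ a, f a a = 0 → a ≠ 0 → ∃ μ : F, μ ≠ 0 ∧
      ∀ y, f y a = μ * f ((g : Matrix (Fin 3) (Fin 3) F) *ᵥ y) ((g : Matrix (Fin 3) (Fin 3) F) *ᵥ a) := by
    intro a ha ha0
    obtain ⟨-, -, hT, -, -⟩ := utv hf hS ha hδ
    have h1 := hT.conj hgM
    obtain ⟨c, hc⟩ := exists_udv hf
      ((δ • dv f a) ᵥ* ((g⁻¹ : GL (Fin 3) F) : Matrix (Fin 3) (Fin 3) F))
    rw [← hc] at h1
    have hga : (g : Matrix (Fin 3) (Fin 3) F) *ᵥ a ≠ 0 := by
      intro h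
      apply ha0
      rw [← inv_mulVec_mulVec g a, h, mulVec_zero]
    obtain ⟨t, rfl⟩ := hB _ c hga h1
    have h2 : ∀ y, f y a = σ t / δ *
        f ((g : Matrix (Fin 3) (Fin 3) F) *ᵥ y) ((g : Matrix (Fin 3) (Fin 3) F) *ᵥ a) := by
      intro y
      rw [div_mul_eq_mul_div, eq_div_iff hδ0, ← u_smul_right hf]
      conv_rhs => rw [← udv_dot hf, hc, ← dotProduct_mulVec, inv_mulVec_mulVec, smul_dotProduct,
        udv_dot hf, smul_eq_mul]
      rw [mul_comm]
    refine ⟨σ t / δ, fun h => ?_, h2⟩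
    obtain ⟨⟨y, hy⟩, -⟩ := hf.nondegenerate a ha0
    exact hy (by rw [h2 y, h, zero_mul])
  obtain ⟨e, he0, he⟩ := exists_iso_ne_zero hf
  obtain ⟨μ, hμ0, hμ⟩ := key e he he0
  let D : Submodule F (Fin 3 → F) :=
    { carrier := {a | ∀ y, f y a = σ μ *
        f ((g : Matrix (Fin 3) (Fin 3) F) *ᵥ y) ((g : Matrix (Fin 3) (Fin 3) F) *ᵥ a)}
      add_mem' := fun {p q} hp hq y => by
        rw [u_add_right hf, mulVec_add, u_add_right hf, hp y, hq y, mul_add]
      zero_mem' := fun y => by rw [mulVec_zero, u_zero_right hf, u_zero_right hf, mul_zero]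
      smul_mem' := fun c p hp y => by
        rw [u_smul_right hf, mulVec_smul, u_smul_right hf, hp y, mul_left_comm] }
  have hD : ∀ d, f d d = 0 → f d 0 = 0 → f e d ≠ 0 → d ∈ D := by
    intro d hd _ hed y
    have hd0 : d ≠ 0 := fun h => hed (by rw [h, u_zero_right hf])
    obtain ⟨ν, -, hν⟩ := key d hd hd0
    suffices ν = σ μ by rw [← this]; exact hν y
    have h1 := hν e
    have h2 := congrArg σ (hμ d)
    rw [map_mul, u_conj hf, u_conj hf, h1] at h2
    refine mul_right_cancel₀ (fun h => hed ?_) h2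
    rw [h1, h, mul_zero]
  apply hgS
  refine ⟨⟨Units.mk0 (σ μ)⁻¹ (inv_ne_zero ((map_ne_zero_iff σ σ.injective).2 hμ0)), fun y a => ?_⟩,
    hMSL hgM⟩
  have ha : a ∈ D := mem_of_perp hf (D := D) he (u_zero_right hf _)
    (fun t ht => he0 (by rw [ht, smul_zero])) hD (u_zero_right hf a)
  rw [Units.val_mk0, ha y, inv_mul_cancel_left₀ ((map_ne_zero_iff σ σ.injective).2 hμ0)]

end Cfsg.Agent.H36.SLThreeForms
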